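import Groth.Agent.MagnetContract.Pushout
import Groth.Agent.MagnetEtale.Lift
import Mathlib

/-!
# The pushout of a face along a thickening
-/

set_option autoImplicit false
set_option backward.isDefEq.respectTransparency false
set_option backward.isDefEq.respectTransparency.types false
set_option linter.style.haveILetI false
set_option maxHeartbeats 1000000

universe u

open CategoryTheory CategoryTheory.Limits MonoidalCategory CartesianMonoidalCategory MonObj AlgebraicGeometry Opposite
open Magnet

namespace Groth.Agent.MagnetContract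

theorem isAffine_AMonS (T : Scheme.{u}) [IsAffine T] (P : Type) [AddCommMonoid P] : IsAffine (AMonS T P).left := by
  haveI : IsAffine (AMon MagnetPts.Zu.{u} P).left := inferInstanceAs (IsAffine (Spec _))
  haveI : IsAffineHom (AMon MagnetPts.Zu.{u} P).hom := isAffineHom_of_isAffine _
  haveI : IsAffineHom (AMonS T P).hom := MorphismProperty.pullback_snd _ _ inferInstance
  exact isAffine_of_isAffineHom (AMonS T P).hom

theorem flat_AMonS (T : Scheme.{u}) (P : Type) [AddCommMonoid P] : Flat (AMonS T P).hom := by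
  haveI : Flat (AMon MagnetPts.Zu.{u} P).hom := by
    show Flat (Spec.map (CommRingCat.ofHom (algebraMap MagnetPts.Zu.{u} (MagnetPts.ZA.{u} P))))
    rw [HasRingHomProperty.Spec_iff (P := @Flat)]
    exact RingHom.flat_algebraMap_iff.2 inferInstance
  exact MorphismProperty.pullback_snd (P := @Flat) _ _ ‹_›

theorem exists_face_pushout (T : Scheme.{u}) [IsAffine T] {M : Type} [AddCommGroup M]
    {N F : AddSubmonoid M} (hF : IsFace N F) (Tb : Over T) (hTb : IsClosedImmersion Tb.hom) :
    ∃ (P : Over T) (ν₁ : AMonS T F ⟶ P) (ν₂ : AMonS T N ⊗ Tb ⟶ P)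
      (hP : IsPushout (fst (AMonS T F) Tb) (AMonS.faceMap T hF ▷ Tb) ν₁ ν₂)
      (aP : MonAct (AMonS T M) P),
      IsAffine P.left ∧ MonAct.IsEquivariant (subAct T M F) aP ν₁ ∧
      MonAct.IsEquivariant ((subAct T M N).prod (MonAct.trivial (AMonS T M) Tb)) aP ν₂ ∧
      ∀ (X : Over T) (aX : MonAct (AMonS T M) X) (f₁ : AMonS T F ⟶ X) (f₂ : AMonS T N ⊗ Tb ⟶ X)
        (w : fst (AMonS T F) Tb ≫ f₁ = (AMonS.faceMap T hF ▷ Tb) ≫ f₂),
        MonAct.IsEquivariant (subAct T M F) aX f₁ →
        MonAct.IsEquivariant ((subAct T M N).prod (MonAct.trivial (AMonS T M) Tb)) aX f₂ →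
        MonAct.IsEquivariant aP aX (hP.desc f₁ f₂ w) := by
  haveI := hTb
  haveI : IsAffine Tb.left := isAffine_of_isAffineHom Tb.hom
  haveI := isAffine_AMonS T F
  haveI := MagnetEtale.isAffine_tensor F Tb
  haveI := MagnetEtale.isAffine_tensor N Tb
  haveI := flat_AMonS T M
  haveI : IsClosedImmersion (fst (AMonS T F) Tb).left := MorphismProperty.pullback_fst _ _ hTb
  refine exists_equivariant_pushout (fst (AMonS T F) Tb) (AMonS.faceMap T hF ▷ Tb)
    ((subAct T M F).prod (MonAct.trivial (AMonS T M) Tb)) _ _ ?_ ?_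
  · rw [MonAct.isEquivariant_iff]
    intro W g z
    rw [← lift_comp_fst_snd z, MonAct.lift_prod_act_assoc, lift_fst, lift_fst]
  · have he := isEquivariant_faceMapS (M := M) T hF
    rw [MonAct.isEquivariant_iff] at he ⊢
    intro W g z
    rw [← lift_comp_fst_snd z, MonAct.lift_prod_act_assoc, lift_whiskerRight, lift_whiskerRight, MonAct.lift_prod_act]
    simp only [Category.assoc, he]

end Groth.Agent.MagnetContract
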