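import Groth.Agent.MagnetContract.Main
import Mathlib

/-!
# The face projection of attractors has connected fibres
-/

set_option autoImplicit false
set_option backward.isDefEq.respectTransparency false
set_option backward.isDefEq.respectTransparency.types false
set_option linter.style.haveILetI false
set_option maxHeartbeats 1000000
set_option synthInstance.maxHeartbeats 100000

universe u

open CategoryTheory CategoryTheory.Limits MonoidalCategory CartesianMonoidalCategory MonObj AlgebraicGeometry Opposite
open Magnet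

namespace Groth.Agent.MagnetContract

variable {S : Scheme.{u}}

/-- A field-valued point is joined to its retraction inside a connected space. -/
theorem exists_path {M : Type} [AddCommGroup M] [AddGroup.FG M] {X : Over S} (a : MonAct (AMonS S M) X)
    {N F : AddSubmonoid M} (hN : N.FG) (hF : IsFace N F) {ZN Z0 : Over S} (eN : (attr a N).RepresentableBy ZN)
    (e0 : (attr a F).RepresentableBy Z0) (j : ZN ⟶ Z0)
    (hj : ∀ (T : Over S) (z : T ⟶ ZN), e0.homEquiv (z ≫ j) = (attrFace a hF).app (op T) (eN.homEquiv z))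
    (σ : Z0 ⟶ ZN) (hσ : ∀ (T : Over S) (w : T ⟶ Z0), eN.homEquiv (w ≫ σ) = (attrMap a hF.le).app (op T) (e0.homEquiv w))
    (L : Type u) [Field L] (T : Over S) (iT : T.left ≅ Spec (CommRingCat.of L)) (x : T ⟶ ZN) :
    ∃ (T₁ : Over S) (_ : PreconnectedSpace T₁.left) (π : T₁ ⟶ T) (o₀ o₁ : T ⟶ T₁) (z : T₁ ⟶ ZN),
      o₀ ≫ π = 𝟙 T ∧ o₁ ≫ π = 𝟙 T ∧ z ≫ j = π ≫ x ≫ j ∧ o₁ ≫ z = x ∧ o₀ ≫ z = x ≫ j ≫ σ := by
  let C : CommRingCat.of L ⟶ CommRingCat.of (Polynomial L) := CommRingCat.ofHom Polynomial.C
  let T₁ : Over S := Over.mk (Spec.map C ≫ iT.inv ≫ T.hom)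
  let π : T₁ ⟶ T := Over.homMk (Spec.map C ≫ iT.inv) (Category.assoc _ _ _)
  let c : Γ(T₁.left, ⊤) := (Scheme.ΓSpecIso (CommRingCat.of (Polynomial L))).inv Polynomial.X
  let ev : L → (CommRingCat.of (Polynomial L) ⟶ CommRingCat.of L) := fun r => CommRingCat.ofHom (Polynomial.evalRingHom r)
  have hev : ∀ r, C ≫ ev r = 𝟙 _ := fun r => CommRingCat.hom_ext (RingHom.ext fun s => by simp [C, ev])
  let o : L → (T ⟶ T₁) := fun r => Over.homMk (iT.hom ≫ Spec.map (ev r)) (by
    show (iT.hom ≫ Spec.map (ev r)) ≫ Spec.map C ≫ iT.inv ≫ T.hom = T.hom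
    rw [Category.assoc, ← Spec.map_comp_assoc, hev, Spec.map_id, Category.id_comp, Iso.hom_inv_id_assoc])
  have hoπ : ∀ r, o r ≫ π = 𝟙 T := fun r => Over.OverMorphism.ext (by
    show (iT.hom ≫ Spec.map (ev r)) ≫ Spec.map C ≫ iT.inv = 𝟙 _
    rw [Category.assoc, ← Spec.map_comp_assoc, hev, Spec.map_id, Category.id_comp, Iso.hom_inv_id])
  have hoc : ∀ r, (o r).left.appTop c = iT.hom.appTop ((Scheme.ΓSpecIso (CommRingCat.of L)).inv r) := fun r => by
    show iT.hom.appTop (((Scheme.ΓSpecIso (CommRingCat.of (Polynomial L))).inv ≫ (Spec.map (ev r)).appTop) Polynomial.X) = _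
    rw [← Scheme.ΓSpecIso_inv_naturality]
    show iT.hom.appTop ((Scheme.ΓSpecIso (CommRingCat.of L)).inv (Polynomial.eval r Polynomial.X)) = _
    rw [Polynomial.eval_X]
  obtain ⟨y, hy, hyt⟩ := exists_scale a hN hF T₁ (eN.homEquiv (π ≫ x)) c
  let z : T₁ ⟶ ZN := eN.homEquiv.symm y
  have hnat : ∀ {A B : Over S} (g : A ⟶ B) (w : B ⟶ ZN), (attr a N).map g.op (eN.homEquiv w) = eN.homEquiv (g ≫ w) :=
    fun g w => (eN.homEquiv_comp g w).symm
  refine ⟨T₁, inferInstanceAs (PreconnectedSpace (PrimeSpectrum (Polynomial L))), π, o 0, o 1, z, hoπ 0, hoπ 1, ?_, ?_, ?_⟩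
  · apply e0.homEquiv.injective
    rw [hj, Equiv.apply_symm_apply, hy, ← Category.assoc, hj]
  · apply eN.homEquiv.injective
    rw [← hnat, Equiv.apply_symm_apply, (hyt T (o 1)).1 (by rw [hoc, map_one, map_one]), hnat, reassoc_of% (hoπ 1)]
  · apply eN.homEquiv.injective
    rw [← hnat, Equiv.apply_symm_apply, (hyt T (o 0)).2 (by rw [hoc, map_zero, map_zero]), ← hj, ← hσ, hnat]
    simp only [Category.assoc, reassoc_of% (hoπ 0)]

theorem exists_connected {M : Type} [AddCommGroup M] [AddGroup.FG M] {X : Over S} (a : MonAct (AMonS S M) X)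
    {N F : AddSubmonoid M} (hN : N.FG) (hF : IsFace N F) {ZN Z0 : Over S} (eN : (attr a N).RepresentableBy ZN)
    (e0 : (attr a F).RepresentableBy Z0) (j : ZN ⟶ Z0)
    (hj : ∀ (T : Over S) (z : T ⟶ ZN), e0.homEquiv (z ≫ j) = (attrFace a hF).app (op T) (eN.homEquiv z)) :
    (∀ (K : Type u) [Field K] (k : Spec (CommRingCat.of K) ⟶ Z0.left), ConnectedSpace ↥(pullback j.left k)) ∧
      Function.Bijective (Continuous.connectedComponentsMap (Scheme.Hom.continuous j.left)) := by
  let σ : Z0 ⟶ ZN := eN.homEquiv.symm ((attrMap a hF.le).app (op Z0) (e0.homEquiv (𝟙 Z0)))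
  have hσ : ∀ (T : Over S) (w : T ⟶ Z0),
      eN.homEquiv (w ≫ σ) = (attrMap a hF.le).app (op T) (e0.homEquiv w) := by
    intro T w
    rw [eN.homEquiv_comp, Equiv.apply_symm_apply, e0.homEquiv_eq w]
    exact (ConcreteCategory.congr_hom ((attrMap a hF.le).naturality w.op) _).symm
  have hsec : σ ≫ j = 𝟙 Z0 := by
    apply e0.homEquiv.injective
    rw [hj, show eN.homEquiv σ = _ from eN.homEquiv.apply_symm_apply _]
    exact ConcreteCategory.congr_hom (congrArg (fun t => NatTrans.app t (op Z0)) (attrMap_comp_attrFace a hF)) _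
  have hsecl : σ.left ≫ j.left = 𝟙 _ := congrArg CommaMorphism.left hsec
  refine ⟨fun K _ k => ?_, ?_⟩
  · let P := pullback j.left k
    let s₀ : Spec (CommRingCat.of K) ⟶ P := pullback.lift (k ≫ σ.left) (𝟙 _) (by
      rw [Category.assoc, hsecl, Category.comp_id, Category.id_comp])
    let c0 : Spec (CommRingCat.of K) := IsLocalRing.closedPoint K
    haveI : Nonempty P := ⟨s₀ c0⟩
    have key : ∀ p : P, connectedComponent p = connectedComponent (s₀ c0) := by
      intro p
      let q := P.fromSpecResidueField p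
      let T : Over S := Over.mk ((q ≫ pullback.fst j.left k) ≫ ZN.hom)
      let x : T ⟶ ZN := Over.homMk (q ≫ pullback.fst j.left k) rfl
      obtain ⟨T₁, hT₁, π, o₀, o₁, z, h0π, h1π, hzj, h1, h0⟩ :=
        exists_path a hN hF eN e0 j hj σ hσ (P.residueField p) T (Iso.refl _) x
      let w : T₁.left ⟶ P := pullback.lift z.left (π.left ≫ q ≫ pullback.snd j.left k) (by
        rw [← Over.comp_left, hzj, Over.comp_left, Over.comp_left, Category.assoc, Category.assoc, ← pullback.condition]
        simp [x])
      have hw1 : o₁.left ≫ w = q := by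
        apply pullback.hom_ext
        · rw [Category.assoc, pullback.lift_fst, ← Over.comp_left, h1]
          rfl
        · rw [Category.assoc, pullback.lift_snd, ← Category.assoc, ← Over.comp_left, h1π]
          exact Category.id_comp _
      have hw0 : o₀.left ≫ w = (q ≫ pullback.snd j.left k) ≫ s₀ := by
        apply pullback.hom_ext
        · rw [Category.assoc, pullback.lift_fst, ← Over.comp_left, h0, Category.assoc (q ≫ pullback.snd j.left k), pullback.lift_fst,
            Over.comp_left, Over.comp_left, Category.assoc q, ← pullback.condition_assoc]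
          simp [x]
        · rw [Category.assoc, pullback.lift_snd, ← Category.assoc, ← Over.comp_left, h0π,
            Category.assoc (q ≫ pullback.snd j.left k), pullback.lift_snd, Category.comp_id]
          exact Category.id_comp _
      let cp : T.left := IsLocalRing.closedPoint (P.residueField p)
      have hr : _root_.IsPreconnected (Set.range w) := isPreconnected_range w.continuous
      have m1 : p ∈ Set.range w := ⟨o₁.left cp, by
        rw [← Scheme.Hom.comp_apply, hw1]
        exact Scheme.fromSpecResidueField_apply p cp⟩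
      have m0 : s₀ c0 ∈ Set.range w := ⟨o₀.left cp, by
        rw [← Scheme.Hom.comp_apply, hw0, Scheme.Hom.comp_apply]
        exact congrArg s₀ (Subsingleton.elim (α := PrimeSpectrum K) _ _)⟩
      exact connectedComponent_eq (hr.subset_connectedComponent m1 m0)
    haveI : PreconnectedSpace P := preconnectedSpace_iff_connectedComponent.2 fun p => by
      refine Set.eq_univ_of_forall fun p' => ?_
      rw [key p, ← key p']
      exact mem_connectedComponent
    exact ⟨inferInstance⟩
  · have hpt : ∀ b : Z0.left, j.left (σ.left b) = b := fun b => by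
      rw [← Scheme.Hom.comp_apply, hsecl]
      rfl
    have hret : ∀ p : ZN.left, (ConnectedComponents.mk p) = ConnectedComponents.mk (σ.left (j.left p)) := by
      intro p
      let T : Over S := Over.mk (ZN.left.fromSpecResidueField p ≫ ZN.hom)
      let x : T ⟶ ZN := Over.homMk (ZN.left.fromSpecResidueField p) rfl
      obtain ⟨T₁, hT₁, π, o₀, o₁, z, -, -, -, h1, h0⟩ :=
        exists_path a hN hF eN e0 j hj σ hσ (ZN.left.residueField p) T (Iso.refl _) x
      let cp : T.left := IsLocalRing.closedPoint (ZN.left.residueField p)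
      have hr : _root_.IsPreconnected (Set.range z.left) := isPreconnected_range z.left.continuous
      have m1 : p ∈ Set.range z.left := ⟨o₁.left cp, by
        rw [← Scheme.Hom.comp_apply, ← Over.comp_left, h1]
        exact Scheme.fromSpecResidueField_apply p cp⟩
      have m0 : σ.left (j.left p) ∈ Set.range z.left := ⟨o₀.left cp, by
        rw [← Scheme.Hom.comp_apply, ← Over.comp_left, h0]
        simp only [Over.comp_left, Scheme.Hom.comp_apply, x, Over.homMk_left]
        exact congrArg (fun t => σ.left (j.left t)) (Scheme.fromSpecResidueField_apply p cp)⟩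
      exact ConnectedComponents.coe_eq_coe'.2 (hr.subset_connectedComponent m0 m1)
    refine ⟨?_, fun b => ?_⟩
    · intro p p'
      obtain ⟨p, rfl⟩ := ConnectedComponents.surjective_coe p
      obtain ⟨p', rfl⟩ := ConnectedComponents.surjective_coe p'
      intro h
      rw [hret p, hret p']
      exact congrArg (Continuous.connectedComponentsMap σ.left.continuous) h
    · obtain ⟨b, rfl⟩ := ConnectedComponents.surjective_coe b
      exact ⟨ConnectedComponents.mk (σ.left b), congrArg ConnectedComponents.mk (hpt b)⟩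

end Groth.Agent.MagnetContract
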