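import Groth.Agent.MagnetHomotopy
import Mathlib

/-!
# Paths contracting an attractor onto the attractor of a face
-/

set_option autoImplicit false
set_option backward.isDefEq.respectTransparency false
set_option backward.isDefEq.respectTransparency.types false
set_option linter.style.haveILetI false
set_option linter.unusedSimpArgs false
set_option maxHeartbeats 1000000

universe u

open CategoryTheory CategoryTheory.Limits MonoidalCategory CartesianMonoidalCategory MonObj AlgebraicGeometry Opposite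
open Magnet Groth.Agent.MagnetPts

namespace Groth.Agent.MagnetContract

variable {S : Scheme.{u}} {M : Type} [AddCommGroup M] {X : Over S}

/-- Scaling an element of the attractor by a function keeps its face projection. -/
theorem exists_scale [AddGroup.FG M] (a : MonAct (AMonS S M) X) {N F : AddSubmonoid M} (hN : N.FG) (hF : IsFace N F)
    (T : Over S) (x : (attr a N).obj (op T)) (c : Γ(T.left, ⊤)) :
    ∃ y : (attr a N).obj (op T), (attrFace a hF).app (op T) y = (attrFace a hF).app (op T) x ∧
      ∀ (T' : Over S) (t : T' ⟶ T),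
        (t.left.appTop c = 1 → (attr a N).map t.op y = (attr a N).map t.op x) ∧
        (t.left.appTop c = 0 → (attr a N).map t.op y =
          (attr a N).map t.op ((attrMap a hF.le).app (op T) ((attrFace a hF).app (op T) x))) := by
  classical
  obtain ⟨lam, hlam⟩ := MagnetHomotopy.exists_functional hN hF.le hF.mem_of_add_mem
  obtain ⟨k, hk⟩ := exists_co (S := S) (P := N) (T := T)
    { toFun := fun n => c ^ lam n.toAdd
      map_one' := by simp
      map_mul' := fun m n => by simp [pow_add] }
  let e : AMonS S N ⊗ T ⟶ AMonS S N ⊗ T := lift (fst _ _ * (snd _ _ ≫ k)) (snd _ _)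
  have he : ∀ {W : Over S} (b : W ⟶ AMonS S N) (t : W ⟶ T), lift b t ≫ e = lift (b * (t ≫ k)) t := by
    intro W b t
    simp only [e, comp_lift, MonObj.comp_mul, lift_fst, lift_snd, lift_snd_assoc]
  have hco : ∀ {W : Over S} (b : W ⟶ AMonS S N) (t : W ⟶ T) (n : Multiplicative N),
      co (b * (t ≫ k)) n = co b n * (t.left.appTop c) ^ lam n.toAdd := by
    intro W b t n
    rw [co_mul, co_comp, hk]
    exact congrArg (co b n * ·) (map_pow _ _ _)
  refine ⟨⟨e ≫ x.1, ?_⟩, ?_, fun T' s => ⟨fun h1 => ?_, fun h0 => ?_⟩⟩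
  · have hx := x.2
    rw [MonAct.mem_eqvHom_iff] at hx ⊢
    intro T' g b t
    rw [← Category.assoc, ← Category.assoc (lift b t), he, he, ← hx]
    congr 2
    simp only [subAct, MonAct.lift_restrict_act, MonAct.lift_regular_act, _root_.mul_assoc]
  · refine Subtype.ext (Magnet.hom_ext_lift₂ fun W b t => ?_)
    show lift b t ≫ (AMonS.faceMap S hF ▷ T) ≫ e ≫ x.1 = lift b t ≫ (AMonS.faceMap S hF ▷ T) ≫ x.1
    rw [lift_whiskerRight_assoc, lift_whiskerRight_assoc, reassoc_of% he]
    congr 2
    refine co_ext fun m => ?_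
    obtain ⟨n, rfl⟩ : ∃ n, Multiplicative.ofAdd n = m := ⟨m.toAdd, rfl⟩
    rw [hco, toAdd_ofAdd]
    by_cases hn : (n : M) ∈ F
    · rw [(hlam n).2 hn, pow_zero, _root_.mul_one]
    · rw [co_faceMap_of_notMem hF _ n hn, zero_mul]
  · refine Subtype.ext (Magnet.hom_ext_lift₂ fun W b t => ?_)
    show lift b t ≫ (AMonS S N ◁ s) ≫ e ≫ x.1 = lift b t ≫ (AMonS S N ◁ s) ≫ x.1
    rw [lift_whiskerLeft_assoc, lift_whiskerLeft_assoc, reassoc_of% he]
    congr 2
    refine co_ext fun n => ?_
    rw [hco, Over.comp_left, Scheme.Hom.comp_appTop, CommRingCat.comp_apply, h1, map_one, one_pow,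
      _root_.mul_one]
  · refine Subtype.ext (Magnet.hom_ext_lift₂ fun W b t => ?_)
    show lift b t ≫ (AMonS S N ◁ s) ≫ e ≫ x.1 = lift b t ≫ (AMonS S N ◁ s) ≫
      (AMonS.map S (AddSubmonoid.inclusion hF.le) ▷ T) ≫ (AMonS.faceMap S hF ▷ T) ≫ x.1
    rw [lift_whiskerLeft_assoc, lift_whiskerLeft_assoc, reassoc_of% he, lift_whiskerRight_assoc, lift_whiskerRight_assoc]
    congr 2
    refine co_ext fun m => ?_
    obtain ⟨n, rfl⟩ : ∃ n, Multiplicative.ofAdd n = m := ⟨m.toAdd, rfl⟩
    rw [hco, Over.comp_left, Scheme.Hom.comp_appTop, CommRingCat.comp_apply, h0, map_zero, toAdd_ofAdd]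
    by_cases hn : (n : M) ∈ F
    · rw [co_faceMap_of_mem hF _ n hn, co_map, (hlam n).2 hn, pow_zero, _root_.mul_one]
      rfl
    · rw [co_faceMap_of_notMem hF _ n hn, zero_pow (fun h : lam n = 0 => hn ((hlam n).1 h)), mul_zero]

end Groth.Agent.MagnetContract
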