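import Groth.Agent.Pinch.Spec
import Groth.Agent.Pinch.BaseChange
import Groth.Prelude.Def_Magnet3
import Mathlib

/-!
# Equivariant pushouts of affine schemes along closed immersions
-/

set_option autoImplicit false
set_option backward.isDefEq.respectTransparency false
set_option backward.isDefEq.respectTransparency.types false
set_option linter.style.haveILetI false
set_option maxHeartbeats 1000000
set_option synthInstance.maxHeartbeats 100000

universe u

open CategoryTheory CategoryTheory.Limits MonoidalCategory CartesianMonoidalCategory MonObj AlgebraicGeometry Opposite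
open Magnet

namespace Groth.Agent.MagnetContract

variable {T : Scheme.{u}}

theorem isPullback_whiskerLeft {Z X : Over T} (G : Over T) (j : Z ⟶ X) :
    IsPullback (snd G Z).left (G ◁ j).left j.left (snd G X).left := by
  refine (IsPullback.of_right (h₁₂ := pullback.fst G.hom X.hom) (v₁₁ := (snd G Z).left)
    (v₁₃ := G.hom) (h₂₂ := X.hom) ?_ ?_ (IsPullback.of_hasPullback _ _)).flip
  · rw [Over.whiskerLeft_left_fst, Over.w j]
    exact IsPullback.of_hasPullback G.hom Z.hom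
  · exact congrArg CommaMorphism.left (whiskerLeft_snd G j)

/-- A closed immersion and a morphism of affine schemes have an affine pinched pushout. -/
theorem exists_pinch {Z X Y : Over T} [IsAffine Z.left] [IsAffine X.left] [IsAffine Y.left] (i : Z ⟶ X)
    [IsClosedImmersion i.left] (q : Z ⟶ Y) :
    ∃ (P : Over T) (ν₁ : X ⟶ P) (ν₂ : Y ⟶ P), IsAffine P.left ∧ Pinch.IsPinch i.left q.left ν₁.left ν₂.left := by
  let R : Subring (Γ(X.left, ⊤) × Γ(Y.left, ⊤)) :=
    RingHom.eqLocus (i.left.appTop.hom.comp (RingHom.fst _ _)) (q.left.appTop.hom.comp (RingHom.snd _ _))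
  let πA : CommRingCat.of R ⟶ Γ(X.left, ⊤) := CommRingCat.ofHom ((RingHom.fst _ _).comp R.subtype)
  let πB : CommRingCat.of R ⟶ Γ(Y.left, ⊤) := CommRingCat.ofHom ((RingHom.snd _ _).comp R.subtype)
  have hw : πA ≫ i.left.appTop = πB ≫ q.left.appTop := CommRingCat.hom_ext (RingHom.ext fun r => r.2)
  have hsurj : Function.Surjective i.left.appTop.hom := i.left.app_surjective _ (isAffineOpen_top _)
  have hspec := Pinch.spec_isPinch πB πA q.left.appTop i.left.appTop hw hsurj
    (fun b a h => ⟨⟨(a, b), h.symm⟩, rfl, rfl⟩) (fun r r' h h' => Subtype.ext (Prod.ext h' h))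
  have hpin : Pinch.IsPinch i.left q.left (X.left.isoSpec.hom ≫ Spec.map πA) (Y.left.isoSpec.hom ≫ Spec.map πB) := by
    refine IsPushout.of_iso hspec (Pinch.SF.mapIso Z.left.isoSpec.symm) (Pinch.SF.mapIso X.left.isoSpec.symm)
      (Pinch.SF.mapIso Y.left.isoSpec.symm) (Iso.refl _) ?_ ?_ ?_ ?_
    · rw [Functor.mapIso_hom, Functor.mapIso_hom, Iso.symm_hom, Iso.symm_hom, ← Functor.map_comp, ← Functor.map_comp,
        Scheme.isoSpec_inv_naturality]
    · rw [Functor.mapIso_hom, Functor.mapIso_hom, Iso.symm_hom, Iso.symm_hom, ← Functor.map_comp, ← Functor.map_comp,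
        Scheme.isoSpec_inv_naturality]
    · rw [Functor.mapIso_hom, Iso.symm_hom, Iso.refl_hom, Category.comp_id, ← Functor.map_comp]
      exact congrArg _ (Iso.inv_hom_id_assoc _ _).symm
    · rw [Functor.mapIso_hom, Iso.symm_hom, Iso.refl_hom, Category.comp_id, ← Functor.map_comp]
      exact congrArg _ (Iso.inv_hom_id_assoc _ _).symm
  have hpo := Pinch.isPushout_of_isPinch hpin
  let P : Over T := Over.mk (hpo.desc X.hom Y.hom (by rw [Over.w, Over.w]))
  let ν₁ : X ⟶ P := Over.homMk (X.left.isoSpec.hom ≫ Spec.map πA) (hpo.inl_desc _ _ _)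
  let ν₂ : Y ⟶ P := Over.homMk (Y.left.isoSpec.hom ≫ Spec.map πB) (hpo.inr_desc _ _ _)
  exact ⟨P, ν₁, ν₂, inferInstanceAs (IsAffine (Spec _)), hpin⟩

theorem isPushout_whisker {Z X Y P : Over T} (H : Over T) [Flat H.hom] {i : Z ⟶ X} [IsClosedImmersion i.left]
    {q : Z ⟶ Y} {ν₁ : X ⟶ P} {ν₂ : Y ⟶ P} [IsAffineHom ν₁.left] [IsAffineHom ν₂.left] (w : i ≫ ν₁ = q ≫ ν₂)
    (h : Pinch.IsPinch i.left q.left ν₁.left ν₂.left) :
    IsPushout (H ◁ i) (H ◁ q) (H ◁ ν₁) (H ◁ ν₂) := by
  have hw : (H ◁ i) ≫ (H ◁ ν₁) = (H ◁ q) ≫ (H ◁ ν₂) := by rw [← whiskerLeft_comp, ← whiskerLeft_comp, w]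
  have hp := Pinch.isPinch_baseChange_flat
    (Pinch.hasCharts_of_affine (congrArg CommaMorphism.left w)) h P.hom H.hom
    (pP := (snd H P).left) (sPT := (fst H P).left) (IsPullback.of_hasPullback H.hom P.hom).flip
    (isPullback_whiskerLeft H ν₁) (isPullback_whiskerLeft H ν₂) (isPullback_whiskerLeft H i)
    (hT := (H ◁ q).left) (congrArg CommaMorphism.left (whiskerLeft_snd H q))
    (congrArg CommaMorphism.left hw).symm
  exact IsPushout.of_map (Over.forget T) hw (Pinch.isPushout_of_isPinch hp)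

/-- The pushout carries an action for which it is an equivariant pushout. -/
theorem exists_equivariant_pinch {G Z X Y : Over T} [MonObj G] [Flat G.hom] [IsAffine Z.left]
    [IsAffine X.left] [IsAffine Y.left] (i : Z ⟶ X) [IsClosedImmersion i.left] (q : Z ⟶ Y)
    (aZ : MonAct G Z) (aX : MonAct G X) (aY : MonAct G Y) (hi : MonAct.IsEquivariant aZ aX i)
    (hq : MonAct.IsEquivariant aZ aY q) :
    ∃ (P : Over T) (ν₁ : X ⟶ P) (ν₂ : Y ⟶ P) (hP : IsPushout i q ν₁ ν₂) (aP : MonAct G P),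
      IsAffine P.left ∧ Pinch.IsPinch i.left q.left ν₁.left ν₂.left ∧ MonAct.IsEquivariant aX aP ν₁ ∧ MonAct.IsEquivariant aY aP ν₂ ∧
      ∀ (W : Over T) (aW : MonAct G W) (f₁ : X ⟶ W) (f₂ : Y ⟶ W) (w : i ≫ f₁ = q ≫ f₂),
        MonAct.IsEquivariant aX aW f₁ → MonAct.IsEquivariant aY aW f₂ →
          MonAct.IsEquivariant aP aW (hP.desc f₁ f₂ w) := by
  obtain ⟨P, ν₁, ν₂, hPaff, h⟩ := exists_pinch i q
  haveI := hPaff
  haveI : IsAffineHom ν₁.left := isAffineHom_of_isAffine _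
  haveI : IsAffineHom ν₂.left := isAffineHom_of_isAffine _
  have w : i ≫ ν₁ = q ≫ ν₂ := Over.OverMorphism.ext (Pinch.w_of_isPinch h)
  have hP : IsPushout i q ν₁ ν₂ := IsPushout.of_map (Over.forget T) w (Pinch.isPushout_of_isPinch h)
  haveI : Flat (G ⊗ G).hom := by
    rw [← Over.w (fst G G)]
    haveI : Flat (fst G G).left := MorphismProperty.pullback_fst _ _ ‹Flat G.hom›
    infer_instance
  have h1 := isPushout_whisker G w h
  have h2 := isPushout_whisker (G ⊗ G) w h
  rw [MonAct.isEquivariant_iff] at hi hq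
  have hc : (G ◁ i) ≫ aX.act ≫ ν₁ = (G ◁ q) ≫ aY.act ≫ ν₂ := by
    refine Magnet.hom_ext_lift₂ fun W g z => ?_
    rw [lift_whiskerLeft_assoc, lift_whiskerLeft_assoc, ← Category.assoc, ← hi, ← Category.assoc (lift g (z ≫ q)), ← hq]
    simp only [Category.assoc, w]
  let act : G ⊗ P ⟶ P := h1.desc (aX.act ≫ ν₁) (aY.act ≫ ν₂) hc
  have e₁ : ∀ {W : Over T} (g : W ⟶ G) (x : W ⟶ X), lift g (x ≫ ν₁) ≫ act = lift g x ≫ aX.act ≫ ν₁ := fun g x => by
    rw [← h1.inl_desc (aX.act ≫ ν₁) (aY.act ≫ ν₂) hc, lift_whiskerLeft_assoc]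
  have e₂ : ∀ {W : Over T} (g : W ⟶ G) (y : W ⟶ Y), lift g (y ≫ ν₂) ≫ act = lift g y ≫ aY.act ≫ ν₂ := fun g y => by
    rw [← h1.inr_desc (aX.act ≫ ν₁) (aY.act ≫ ν₂) hc, lift_whiskerLeft_assoc]
  have hone : lift (1 : P ⟶ G) (𝟙 P) ≫ act = 𝟙 P := by
    apply hP.hom_ext
    · rw [comp_lift_assoc, MonObj.comp_one, Category.comp_id]
      have := e₁ (1 : X ⟶ G) (𝟙 X)
      rw [Category.id_comp] at this
      rw [this, ← Category.assoc, aX.lift_one_act, Category.id_comp]
    · rw [comp_lift_assoc, MonObj.comp_one, Category.comp_id]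
      have := e₂ (1 : Y ⟶ G) (𝟙 Y)
      rw [Category.id_comp] at this
      rw [this, ← Category.assoc, aY.lift_one_act, Category.id_comp]
  have hmul : lift ((fst (G ⊗ G) P ≫ fst G G) * (fst (G ⊗ G) P ≫ snd G G)) (snd (G ⊗ G) P) ≫ act =
      lift (fst (G ⊗ G) P ≫ fst G G) (lift (fst (G ⊗ G) P ≫ snd G G) (snd (G ⊗ G) P) ≫ act) ≫ act := by
    apply h2.hom_ext
    · simp only [comp_lift_assoc, comp_lift, MonObj.comp_mul, whiskerLeft_fst_assoc, whiskerLeft_snd, e₁]
      rw [← Category.assoc, aX.lift_mul_act, Category.assoc, ← e₁]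
      simp only [Category.assoc]
    · simp only [comp_lift_assoc, comp_lift, MonObj.comp_mul, whiskerLeft_fst_assoc, whiskerLeft_snd, e₂]
      rw [← Category.assoc, aY.lift_mul_act, Category.assoc, ← e₂]
      simp only [Category.assoc]
  let aP : MonAct G P := MonAct.mk' act
    (fun W x => by
      have := congrArg (fun t => x ≫ t) hone
      simpa only [comp_lift_assoc, MonObj.comp_one, Category.comp_id] using this)
    (fun W g g' x => by
      have := congrArg (fun t => lift (lift g g') x ≫ t) hmul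
      simpa only [comp_lift_assoc, comp_lift, MonObj.comp_mul, lift_fst_assoc, lift_fst, lift_snd] using this)
  refine ⟨P, ν₁, ν₂, hP, aP, hPaff, h, ?_, ?_, fun W aW f₁ f₂ wf hf₁ hf₂ => ?_⟩
  · rw [MonAct.isEquivariant_iff]
    intro W g x
    exact (e₁ g x).symm
  · rw [MonAct.isEquivariant_iff]
    intro W g y
    exact (e₂ g y).symm
  · rw [MonAct.isEquivariant_iff] at hf₁ hf₂ ⊢
    have key : act ≫ hP.desc f₁ f₂ wf = (G ◁ hP.desc f₁ f₂ wf) ≫ aW.act := by
      apply h1.hom_ext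
      · rw [← whiskerLeft_comp_assoc, IsPushout.inl_desc, h1.inl_desc_assoc, Category.assoc, IsPushout.inl_desc]
        refine Magnet.hom_ext_lift₂ fun V g x => ?_
        rw [lift_whiskerLeft_assoc, ← Category.assoc]
        exact hf₁ V g x
      · rw [← whiskerLeft_comp_assoc, IsPushout.inr_desc, h1.inr_desc_assoc, Category.assoc, IsPushout.inr_desc]
        refine Magnet.hom_ext_lift₂ fun V g x => ?_
        rw [lift_whiskerLeft_assoc, ← Category.assoc]
        exact hf₂ V g x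
    intro V g x
    show (lift g x ≫ act) ≫ _ = _
    rw [Category.assoc, key, lift_whiskerLeft_assoc]

/-- The equivariant pushout. -/
theorem exists_equivariant_pushout {G Z X Y : Over T} [MonObj G] [Flat G.hom] [IsAffine Z.left]
    [IsAffine X.left] [IsAffine Y.left] (i : Z ⟶ X) [IsClosedImmersion i.left] (q : Z ⟶ Y)
    (aZ : MonAct G Z) (aX : MonAct G X) (aY : MonAct G Y) (hi : MonAct.IsEquivariant aZ aX i)
    (hq : MonAct.IsEquivariant aZ aY q) :
    ∃ (P : Over T) (ν₁ : X ⟶ P) (ν₂ : Y ⟶ P) (hP : IsPushout i q ν₁ ν₂) (aP : MonAct G P),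
      IsAffine P.left ∧ MonAct.IsEquivariant aX aP ν₁ ∧ MonAct.IsEquivariant aY aP ν₂ ∧
      ∀ (W : Over T) (aW : MonAct G W) (f₁ : X ⟶ W) (f₂ : Y ⟶ W) (w : i ≫ f₁ = q ≫ f₂),
        MonAct.IsEquivariant aX aW f₁ → MonAct.IsEquivariant aY aW f₂ →
          MonAct.IsEquivariant aP aW (hP.desc f₁ f₂ w) := by
  obtain ⟨P, ν₁, ν₂, hP, aP, hA, -, h⟩ := exists_equivariant_pinch i q aZ aX aY hi hq
  exact ⟨P, ν₁, ν₂, hP, aP, hA, h⟩

end Groth.Agent.MagnetContract
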